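import Groth.Agent.Surf.K379.FibSm
import Groth.Agent.Surf.K456.RuledPic
import Groth.Agent.Surf.K460.Basic
import Groth.Agent.Models.K382.RatFib

/-!
# The genus of the smooth closed fibres of a proper flat family of curves over a curve

`exists_genus`: the smooth closed fibres have Euler characteristic `1 - g` for one `g`; for `g = 0` they
are all isomorphic to the projective line.
-/

set_option autoImplicit false
set_option linter.unusedSectionVars false
set_option linter.style.haveILetI false
universe u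
open CategoryTheory CategoryTheory.Limits AlgebraicGeometry TopologicalSpace

namespace K185.Chi

open Groth.Agent Groth.Agent.Grpsch.PicGrp K456.Ruled K464.Base

variable (k : Type u) [Field k] [IsAlgClosed k] {C X : Scheme.{u}} [C.Over (Spec (CommRingCat.of k))]
  [X.Over (Spec (CommRingCat.of k))] [IsProper (C ↘ (Spec (CommRingCat.of k)))]
  [IsProper (X ↘ (Spec (CommRingCat.of k)))] (f : X ⟶ C)
  (hf : f ≫ (C ↘ (Spec (CommRingCat.of k))) = (X ↘ (Spec (CommRingCat.of k))))

include hf in
/-- A smooth connected closed fibre is integral. -/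
theorem isIntegral_fiber {s : C} (hs : IsClosed ({s} : Set C)) (hsm : Smooth (f.fiberToSpecResidueField s))
    [ConnectedSpace ↥(f.fiber s)] :
    Smooth (f.fiberι s ≫ (X ↘ Spec (CommRingCat.of k))) ∧ IsIntegral (f.fiber s) := by
  have hstr : f.fiberι s ≫ (X ↘ Spec (CommRingCat.of k)) =
      f.fiberToSpecResidueField s ≫ Spec.map (residueFieldIsoBase (C ↘ Spec (CommRingCat.of k)) s hs).inv := by
    rw [SpecMap_residueFieldIsoBase_inv, ← hf, ← Category.assoc, ← Category.assoc]
    congr 1
    exact (K627.SurfFin.isPullback_fiber f s).w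
  have h1 : Smooth (f.fiberι s ≫ (X ↘ Spec (CommRingCat.of k))) := by
    rw [hstr]
    infer_instance
  exact ⟨h1, K379.FibSm.isIntegral_of_connected (f.fiberι s ≫ (X ↘ Spec (CommRingCat.of k)))⟩

include hf in
/-- The Euler characteristic of a smooth connected one-dimensional closed fibre. -/
theorem euler_fiber {s : C} (hs : IsClosed ({s} : Set C)) (hsm : Smooth (f.fiberToSpecResidueField s))
    [ConnectedSpace ↥(f.fiber s)] (hd : topologicalKrullDim ↥(f.fiber s) = 1) :
    Curv2.euler k X (ClSub.quotMod (f.fiberι s).ker) = PerfAux.eulerChar f (Coh.structureModule X) s ∧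
      PerfAux.eulerChar f (Coh.structureModule X) s =
        1 - ((letI := fibOver k f s; Module.finrank k (Coh.HH (f.fiber s) (Coh.structureModule (f.fiber s)) 1) : ℕ) : ℤ) := by
  letI := fibOver k f s
  obtain ⟨h1, h2⟩ := isIntegral_fiber k f hf hs hsm
  have hcl := K379.FibSm.isClosedImmersion_fiberι f hs
  have hp : IsProper ((f.fiber s) ↘ Spec (CommRingCat.of k)) := isProper_fib k f hf s hs
  have h3 := K456.Base.euler_quot k (f.fiberι s) (rfl : _ = (f.fiber s) ↘ Spec (CommRingCat.of k))
  have h4 := K456.Ruled.eulerChar_eq k f hf (Coh.structureModule X) s hs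
  obtain ⟨u⟩ := Ega3B.PullTensor.nonempty_pullUnitIso (f.fiberι s)
  have h5 : Curv2.euler k (f.fiber s) ((Scheme.Modules.pullback (f.fiberι s)).obj (Coh.structureModule X)) =
      Curv2.euler k (f.fiber s) (Coh.structureModule (f.fiber s)) := VarietyA.EulerAdd.euler_congr k u
  have h6 := Groth.Agent.Surf.K460.Basic.euler_structure k (f.fiber s) hd.le
  refine ⟨?_, ?_⟩
  · rw [h3, h4]
    exact h5.symm
  · rw [h4]
    exact h5.trans h6

end K185.Chi

namespace K185.Chi

open Groth.Agent Groth.Agent.Grpsch.PicGrp K456.Ruled K464.Base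

/-- **Node CHI of S15102.** -/
theorem exists_genus (k : Type u) [Field k] [IsAlgClosed k]
    (C : Scheme.{u}) [C.Over (Spec (CommRingCat.of k))] [IsProper (C ↘ (Spec (CommRingCat.of k)))]
    [Smooth (C ↘ (Spec (CommRingCat.of k)))] [IsIntegral C] (_hdimC : topologicalKrullDim C = 1)
    (X : Scheme.{u}) [X.Over (Spec (CommRingCat.of k))] (f : X ⟶ C) [f.IsOver (Spec (CommRingCat.of k))] [IsProper f] [Flat f]
    (hfib : ∀ c : C, IsClosed ({c} : Set C) → Smooth (f.fiberToSpecResidueField c) →
      ConnectedSpace ↥(f.fiber c) ∧ topologicalKrullDim ↥(f.fiber c) = 1) :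
    ∃ g : ℕ, (∀ c : C, IsClosed ({c} : Set C) → Smooth (f.fiberToSpecResidueField c) →
        Curv2.euler k X (ClSub.quotMod (f.fiberι c).ker) = 1 - (g : ℤ)) ∧
      (g = 0 → ∀ c₁ c₂ : C, IsClosed ({c₁} : Set C) → IsClosed ({c₂} : Set C) →
        Smooth (f.fiberToSpecResidueField c₁) → Smooth (f.fiberToSpecResidueField c₂) →
        ∃ e : f.fiber c₁ ≅ f.fiber c₂, e.hom ≫ f.fiberι c₂ ≫ (X ↘ (Spec (CommRingCat.of k))) =
          f.fiberι c₁ ≫ (X ↘ (Spec (CommRingCat.of k)))) := by
  have hf : f ≫ (C ↘ (Spec (CommRingCat.of k))) = (X ↘ (Spec (CommRingCat.of k))) := comp_over f _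
  have hXp : IsProper (X ↘ (Spec (CommRingCat.of k))) := by
    rw [← hf]
    infer_instance
  have hCn : IsLocallyNoetherian C :=
    LocallyOfFiniteType.isLocallyNoetherian (C ↘ (Spec (CommRingCat.of k)))
  have := lfp f
  have hconst : ∀ y y' : C, PerfAux.eulerChar f (Coh.structureModule X) y =
      PerfAux.eulerChar f (Coh.structureModule X) y' := fun y y' =>
    (S1026.result f _ (isFP_of_isInvertible Fdesc.LocGen.isInvertible_structureModule)
      (K456.FlatInv.isFlatOver_of_isInvertible f Fdesc.LocGen.isInvertible_structureModule)).apply_eq_of_preconnectedSpace y y'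
  by_cases hex : ∃ c : C, IsClosed ({c} : Set C) ∧ Smooth (f.fiberToSpecResidueField c)
  · obtain ⟨c₀, hc₀, hsm₀⟩ := hex
    obtain ⟨hcon₀, hd₀⟩ := hfib c₀ hc₀ hsm₀
    refine ⟨letI := fibOver k f c₀; Module.finrank k (Coh.HH (f.fiber c₀) (Coh.structureModule (f.fiber c₀)) 1), ?_, ?_⟩
    · intro c hc hsm
      obtain ⟨hcon, hd⟩ := hfib c hc hsm
      rw [(euler_fiber k f hf hc hsm hd).1, hconst c c₀]
      exact (euler_fiber k f hf hc₀ hsm₀ hd₀).2
    · intro h0
      have key : ∀ c : C, IsClosed ({c} : Set C) → Smooth (f.fiberToSpecResidueField c) →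
          ∃ e : f.fiber c ≅ CohB1.ProjSpace 1 k, e.hom ≫ CohB1.ProjSpace.toSpec 1 k =
            f.fiberι c ≫ (X ↘ (Spec (CommRingCat.of k))) := by
        intro c hc hsm
        letI := fibOver k f c
        obtain ⟨hcon, hd⟩ := hfib c hc hsm
        obtain ⟨h1, h2⟩ := isIntegral_fiber k f hf hc hsm
        have hp : IsProper ((f.fiber c) ↘ Spec (CommRingCat.of k)) := isProper_fib k f hf c hc
        have h3 := (euler_fiber k f hf hc hsm hd).2
        have h4 := (euler_fiber k f hf hc₀ hsm₀ hd₀).2
        rw [hconst c c₀, h4] at h3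
        have h5 : Module.finrank k (Coh.HH (f.fiber c) (Coh.structureModule (f.fiber c)) 1) = 0 := by
          have h6 : ((letI := fibOver k f c₀; Module.finrank k
            (Coh.HH (f.fiber c₀) (Coh.structureModule (f.fiber c₀)) 1) : ℕ) : ℤ) = 0 := by exact_mod_cast h0
          rw [h6] at h3
          have h7 : ((Module.finrank k (Coh.HH (f.fiber c) (Coh.structureModule (f.fiber c)) 1) : ℕ) : ℤ) = 0 := by
            linarith
          exact_mod_cast h7
        have hfin : Module.Finite k (Coh.HH (f.fiber c) (Coh.structureModule (f.fiber c)) 1) :=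
          VarietyA.CurveFin.finite_HH_structure k (f.fiber c) 1
        have hp' : IsProper (f.fiberι c ≫ (X ↘ (Spec (CommRingCat.of k)))) := hp
        exact K382.RatFib.exists_iso_projLine _ hd (Module.finrank_zero_iff.1 h5)
      intro c₁ c₂ hc₁ hc₂ hs₁ hs₂
      obtain ⟨e₁, he₁⟩ := key c₁ hc₁ hs₁
      obtain ⟨e₂, he₂⟩ := key c₂ hc₂ hs₂
      refine ⟨e₁ ≪≫ e₂.symm, ?_⟩
      rw [← he₂, ← he₁]
      simp
  · push Not at hex
    exact ⟨1, fun c hc hsm => absurd hsm (hex c hc), fun h => absurd h one_ne_zero⟩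

end K185.Chi
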