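import Groth.Agent.Models.K954.GenLift
import Groth.Agent.Models.NodeLocus
import Groth.Agent.Flat2D.FiberStalk
import Groth.Agent.Models.H112.NodalFam
import Groth.Agent.Sga7.H732.Claim
import Groth.Agent.Ega4late.H533.DescScheme
import Groth.Agent.Dix.IdealModCartier
import Groth.Agent.CalgB.RegHom1
import Groth.Agent.S0065
import Groth.Agent.Ega1.ReducedSub
import Groth.Agent.Divis.IdealComap
import Groth.Agent.S3336
import Mathlib.RingTheory.Flat.TorsionFree
import Mathlib.RingTheory.Flat.FaithfullyFlat.Algebra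

/-!
# Minimal regular models and unramified extensions of discrete valuation rings with trivial residue extension

`φ : R → R₂` an extension of discrete valuation rings with `𝔪_R R₂ = 𝔪_{R₂}` and surjective residue map.
If `X` is a minimal model of `C` over `R`, then `X ×_R R₂` is a minimal model of the base change of `C`;
hence `X` is a nodal family as soon as `C` has semistable reduction after the extension.
-/

set_option autoImplicit false
universe u

open CategoryTheory CategoryTheory.Limits AlgebraicGeometry IsLocalRing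

namespace K185.MinBC

/-- Extensions of discrete valuation rings with the same uniformizer and the same residue field. -/
structure Good {R R₂ : Type u} [CommRing R] [IsDomain R] [IsDiscreteValuationRing R] [CommRing R₂] [IsDomain R₂]
    [IsDiscreteValuationRing R₂] (φ : R →+* R₂) : Prop where
  ext : Models.IsDVRExtension R φ
  max : (maximalIdeal R).map φ = maximalIdeal R₂
  res : Function.Surjective ((residue R₂).comp φ)

variable {R R₂ : Type u} [CommRing R] [IsDomain R] [IsDiscreteValuationRing R] [CommRing R₂] [IsDomain R₂]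
    [IsDiscreteValuationRing R₂] {φ : R →+* R₂}

theorem ker_of_isPullback {P X Y Z : Scheme.{u}} {p : P ⟶ X} {q : P ⟶ Z} {f : X ⟶ Y} {i : Z ⟶ Y}
    (sq : IsPullback p q f i) [IsClosedImmersion i] : p.ker = i.ker.comap f := by
  rw [← Scheme.IdealSheafData.ker_fst_of_isClosedImmersion i f]
  have h : sq.isoPullback.hom ≫ pullback.fst f i = p := sq.isoPullback_hom_fst
  rw [← h, Scheme.Hom.ker_comp_of_isIso]

theorem isField_stalk_spec (K : Type u) [Field K] (z : Spec (CommRingCat.of K)) :
    IsField ((Spec (CommRingCat.of K)).presheaf.stalk z) := by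
  have hz : z.asIdeal.IsPrime := z.isPrime
  let _ : Algebra K ((Spec (CommRingCat.of K)).presheaf.stalk z) := StructureSheaf.stalkAlgebra (R := K) z
  have hl : IsLocalization.AtPrime ((Spec (CommRingCat.of K)).presheaf.stalk z) z.asIdeal :=
    StructureSheaf.IsLocalization.to_stalk K z
  have h1 : Function.Bijective (algebraMap K ((Spec (CommRingCat.of K)).presheaf.stalk z)) := by
    refine IsField.localization_map_bijective (M := z.asIdeal.primeCompl) ?_ (Field.toIsField K)
    intro h0
    exact h0 z.asIdeal.zero_mem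
  exact (MulEquiv.ofBijective (algebraMap K ((Spec (CommRingCat.of K)).presheaf.stalk z)) h1).symm.isField
    (Field.toIsField K)

/-- The closed point of `Spec R₂` is the base change of its image in `Spec R`. -/
theorem Good.isPullback (h : Good φ) :
    IsPullback (Spec.map (CommRingCat.ofHom (residue R₂))) (𝟙 (Spec (CommRingCat.of (ResidueField R₂))))
      (Spec.map (CommRingCat.ofHom φ)) (Spec.map (CommRingCat.ofHom ((residue R₂).comp φ))) := by
  have hpo : IsPushout (CommRingCat.ofHom φ) (CommRingCat.ofHom ((residue R₂).comp φ))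
      (CommRingCat.ofHom (residue R₂)) (𝟙 (CommRingCat.of (ResidueField R₂))) := by
    refine ⟨⟨by rw [Category.comp_id, CommRingCat.ofHom_comp]⟩, ⟨PushoutCocone.IsColimit.mk _
      (fun s => s.inr) (fun s => ?_) (fun s => by simp) (fun s m _ h2 => by simpa using h2)⟩⟩
    have hc : s.inl.hom.comp φ = s.inr.hom.comp ((residue R₂).comp φ) := congrArg CommRingCat.Hom.hom s.condition
    ext y
    change s.inr.hom (residue R₂ y) = s.inl.hom y
    obtain ⟨r, hr⟩ := h.res (residue R₂ y)
    have h1 : y - φ r ∈ maximalIdeal R₂ := by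
      rw [← Ideal.Quotient.eq_zero_iff_mem]
      change residue R₂ (y - φ r) = 0
      rw [map_sub, ← hr]
      exact sub_self _
    have h2 : ∀ z ∈ maximalIdeal R₂, s.inl.hom z = 0 := by
      intro z hz
      rw [← h.max] at hz
      refine Submodule.span_induction ?_ (map_zero _) (fun a b _ _ ha hb => by rw [map_add, ha, hb, add_zero])
        (fun a b _ hb => by rw [smul_eq_mul, map_mul, hb, mul_zero]) hz
      rintro _ ⟨a, ha, rfl⟩
      have h3 := congrArg (fun t => t a) hc
      change s.inl.hom (φ a) = s.inr.hom (residue R₂ (φ a)) at h3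
      rw [h3]
      have h4 : residue R₂ (φ a) = 0 := by
        have h5 : φ a ∈ maximalIdeal R₂ := by
          rw [← h.max]
          exact Ideal.mem_map_of_mem φ ha
        exact Ideal.Quotient.eq_zero_iff_mem.2 h5
      rw [h4, map_zero]
    have h3 := congrArg (fun t => t r) hc
    change s.inl.hom (φ r) = s.inr.hom (residue R₂ (φ r)) at h3
    have h4 := h2 _ h1
    rw [map_sub, sub_eq_zero] at h4
    rw [h4, h3]
    exact congrArg s.inr.hom hr.symm
  have := isPullback_SpecMap_of_isPushout _ _ _ _ hpo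
  rwa [Spec.map_id] at this

section

variable {X X₂ : Scheme.{u}} {p : X ⟶ Spec (CommRingCat.of R)} {p₂ : X₂ ⟶ Spec (CommRingCat.of R₂)}
  {a : X₂ ⟶ X}

theorem flat_map (h : Models.IsDVRExtension R φ) : Flat (Spec.map (CommRingCat.ofHom φ)) := by
  let _ : Algebra R R₂ := φ.toAlgebra
  have hfaith : FaithfulSMul R R₂ := (faithfulSMul_iff_algebraMap_injective R R₂).2 h.1
  have htf : Module.IsTorsionFree R R₂ := inferInstance
  have hflat : Module.Flat R R₂ := inferInstance
  rw [Flat.SpecMap_iff]
  change (algebraMap R R₂).Flat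
  rw [RingHom.flat_algebraMap_iff]
  infer_instance

theorem surjective_map (h : Models.IsDVRExtension R φ) : Surjective (Spec.map (CommRingCat.ofHom φ)) := by
  let _ : Algebra R R₂ := φ.toAlgebra
  have hfaith : FaithfulSMul R R₂ := (faithfulSMul_iff_algebraMap_injective R R₂).2 h.1
  have htf : Module.IsTorsionFree R R₂ := inferInstance
  have hflat : Module.Flat R R₂ := inferInstance
  have hloc0 : IsLocalHom (algebraMap R R₂) := h.2
  have hff : Module.FaithfullyFlat R R₂ := Module.FaithfullyFlat.of_flat_of_isLocalHom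
  exact ⟨PrimeSpectrum.comap_surjective_of_faithfullyFlat⟩

/-- A scheme over the closed point of `Spec R₂` mapping to `X₂` is the base change of itself. -/
theorem Good.isPullback_of_fac (h : Good φ) (hX : IsPullback a p₂ p (Spec.map (CommRingCat.ofHom φ)))
    {Γ : Scheme.{u}} (i : Γ ⟶ X₂) (c : Γ ⟶ Spec (CommRingCat.of (ResidueField R₂)))
    (hc : i ≫ p₂ = c ≫ Spec.map (CommRingCat.ofHom (residue R₂))) :
    IsPullback i (𝟙 Γ) a (i ≫ a) := by
  refine ⟨⟨by rw [Category.id_comp]⟩, ⟨PullbackCone.IsLimit.mk _ (fun s => s.snd) (fun s => ?_)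
    (fun s => by simp) (fun s m _ h2 => by simpa using h2)⟩⟩
  have h0 : s.fst ≫ a = s.snd ≫ i ≫ a := s.condition
  apply hX.hom_ext
  · rw [h0, Category.assoc]
  · have h1 : (s.fst ≫ p₂) ≫ Spec.map (CommRingCat.ofHom φ) =
        (s.snd ≫ c) ≫ Spec.map (CommRingCat.ofHom ((residue R₂).comp φ)) := by
      rw [Category.assoc, ← hX.w, ← Category.assoc, h0, Category.assoc, Category.assoc, hX.w,
        CommRingCat.ofHom_comp, Spec.map_comp]
      simp only [Category.assoc]
      rw [← Category.assoc i p₂, hc, Category.assoc]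
    have h2 := h.isPullback.lift_fst _ _ h1
    have h3 := h.isPullback.lift_snd _ _ h1
    rw [Category.comp_id] at h3
    rw [h3] at h2
    rw [Category.assoc, hc, ← Category.assoc, h2]

theorem Good.isClosedImmersion (h : Good φ) (hX : IsPullback a p₂ p (Spec.map (CommRingCat.ofHom φ)))
    {Γ : Scheme.{u}} (i : Γ ⟶ X₂) [IsClosedImmersion i] (c : Γ ⟶ Spec (CommRingCat.of (ResidueField R₂)))
    (hc : i ≫ p₂ = c ≫ Spec.map (CommRingCat.ofHom (residue R₂))) : IsClosedImmersion (i ≫ a) := by
  let P := pullback p₂ (Spec.map (CommRingCat.ofHom (residue R₂)))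
  let u : P ⟶ X₂ := pullback.fst _ _
  have hu : IsPullback u (pullback.snd _ _) p₂ (Spec.map (CommRingCat.ofHom (residue R₂))) :=
    IsPullback.of_hasPullback _ _
  have h1 : IsPullback (u ≫ a) (pullback.snd _ _) p (Spec.map (CommRingCat.ofHom ((residue R₂).comp φ))) := by
    have := hu.paste_horiz hX
    rwa [← Spec.map_comp, ← CommRingCat.ofHom_comp] at this
  have hcl1 : IsClosedImmersion (Spec.map (CommRingCat.ofHom (residue R₂))) :=
    IsClosedImmersion.spec_of_surjective _ Ideal.Quotient.mk_surjective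
  have hcl2 : IsClosedImmersion (Spec.map (CommRingCat.ofHom ((residue R₂).comp φ))) :=
    IsClosedImmersion.spec_of_surjective _ h.res
  have hu1 : IsClosedImmersion u := MorphismProperty.of_isPullback hu.flip hcl1
  have hu2 : IsClosedImmersion (u ≫ a) := MorphismProperty.of_isPullback h1.flip hcl2
  let l : Γ ⟶ P := hu.lift i c hc
  have hl : l ≫ u = i := hu.lift_fst _ _ _
  have hl1 : IsClosedImmersion (l ≫ u) := by rw [hl]; infer_instance
  have hl2 : IsClosedImmersion l := IsClosedImmersion.of_comp l u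
  have h2 : i ≫ a = l ≫ u ≫ a := by rw [← Category.assoc, hl]
  rw [h2]
  infer_instance

theorem isLocallyNoetherian (p : X ⟶ Spec (CommRingCat.of R)) [LocallyOfFiniteType p] : IsLocallyNoetherian X := by
  have : IsLocallyNoetherian (Spec (CommRingCat.of R)) := by
    have : IsNoetherianRing (CommRingCat.of R) := inferInstanceAs (IsNoetherianRing R)
    infer_instance
  exact LocallyOfFiniteType.isLocallyNoetherian p

/-- The base change of a minimal model has no exceptional curve. -/
theorem Good.not_isExcCurve (h : Good φ) (hX : IsPullback a p₂ p (Spec.map (CommRingCat.ofHom φ)))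
    [LocallyOfFiniteType p] (hmin : ∀ Γ : ArSurf.VertComp R (Over.mk p), ¬ Models.IsExcCurve Γ.ι)
    (Γ : ArSurf.VertComp R₂ (Over.mk p₂)) : ¬ Models.IsExcCurve Γ.ι := by
  rintro ⟨heff, k, hk, e, ⟨θ⟩⟩
  have hw : Γ.ι ≫ p₂ = Γ.curve.hom ≫ Spec.map (CommRingCat.ofHom (residue R₂)) := Γ.w
  have := Γ.isClosedImmersion
  have hflat : Flat a := MorphismProperty.of_isPullback hX.flip (flat_map h.ext)
  have hsurj : Surjective a := MorphismProperty.of_isPullback hX.flip (surjective_map h.ext)
  have hNX : IsLocallyNoetherian X := isLocallyNoetherian p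
  have hcl : IsClosedImmersion (Γ.ι ≫ a) := h.isClosedImmersion hX Γ.ι Γ.curve.hom hw
  have hpb : IsPullback Γ.ι (𝟙 _) a (Γ.ι ≫ a) := h.isPullback_of_fac hX Γ.ι Γ.curve.hom hw
  have hker : Γ.ι.ker = (Γ.ι ≫ a).ker.comap a := ker_of_isPullback hpb
  have heff' : BlowUp.IsEffCartierIdeal (Γ.ι ≫ a).ker := by
    refine Groth.Agent.Ega4late.H533.DescScheme.isEffCartierIdeal_of_comap (f := a) _ ?_
    rw [← hker]
    exact heff
  let Δ : ArSurf.VertComp R (Over.mk p) :=
    { curve := Over.mk (Γ.curve.hom ≫ Spec.map (CommRingCat.ofHom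
        (letI := h.ext.2; IsLocalRing.ResidueField.map φ)))
      ι := Γ.ι ≫ a
      isClosedImmersion := hcl
      isIntegral := Γ.isIntegral
      dim_eq := Γ.dim_eq
      w := by
        change (Γ.ι ≫ a) ≫ p = (Γ.curve.hom ≫ _) ≫ _
        rw [Category.assoc, hX.w, ← Category.assoc, hw, Category.assoc, Category.assoc, ← Spec.map_comp,
          ← Spec.map_comp]
        congr 1 }
  refine hmin Δ ⟨heff', k, hk, e, ?_⟩
  obtain ⟨η⟩ := Groth.Agent.Dix.IdealModCartier.pullback_idealMod a heff' (by rw [← hker]; exact heff)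
  change Nonempty ((Scheme.Modules.pullback (e.hom ≫ Γ.ι ≫ a)).obj (ClSub.idealMod (Γ.ι ≫ a).ker) ≅ _)
  rw [← hker] at η
  refine ⟨?_ ≪≫ θ⟩
  exact (Scheme.Modules.pullbackCongr (Category.assoc e.hom Γ.ι a).symm).app _ ≪≫
    ((Scheme.Modules.pullbackComp (e.hom ≫ Γ.ι) a).app _).symm ≪≫
    (Scheme.Modules.pullback (e.hom ≫ Γ.ι)).mapIso η

/-- The fibres of `X₂ → X` over the points of the closed fibre are reduced points. -/
theorem Good.exists_fib (h : Good φ) (hX : IsPullback a p₂ p (Spec.map (CommRingCat.ofHom φ))) (y : X)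
    (hy : p y = closedPoint R) : Nonempty (a.fiber y ≅ Spec (X.residueField y)) := by
  let t : Spec (X.residueField y) ⟶ X := X.fromSpecResidueField y
  have hcl : IsClosedImmersion (Spec.map (CommRingCat.ofHom ((residue R₂).comp φ))) :=
    IsClosedImmersion.spec_of_surjective _ h.res
  obtain ⟨c, hc⟩ := Groth.Agent.Ega1.ReducedSub.exists_factor_of_range_subset (t ≫ p)
    (Spec.map (CommRingCat.ofHom ((residue R₂).comp φ))) (by
      rintro _ ⟨z, rfl⟩
      have h1 : (t ≫ p) z = closedPoint R := by
        rw [Scheme.Hom.comp_apply]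
        have h2 : t z = y := by
          have := X.range_fromSpecResidueField y
          exact (this.le ⟨z, rfl⟩ : _)
        rw [h2, hy]
      rw [h1]
      refine ⟨closedPoint _, ?_⟩
      have hl : IsLocalHom ((residue R₂).comp φ) := by
        have := h.ext.2
        infer_instance
      exact IsLocalRing.comap_closedPoint ((residue R₂).comp φ))
  let i : Spec (X.residueField y) ⟶ X₂ := hX.lift t (c ≫ Spec.map (CommRingCat.ofHom (residue R₂))) (by
    rw [Category.assoc, ← Spec.map_comp, ← CommRingCat.ofHom_comp, hc])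
  have hi1 : i ≫ a = t := hX.lift_fst _ _ _
  have hi2 : i ≫ p₂ = c ≫ Spec.map (CommRingCat.ofHom (residue R₂)) := hX.lift_snd _ _ _
  have h3 := h.isPullback_of_fac hX i c hi2
  rw [hi1] at h3
  have h4 : IsPullback (a.fiberι y) (a.fiberToSpecResidueField y) a t := IsPullback.of_hasPullback _ _
  exact ⟨h4.isoIsPullback _ _ h3⟩

theorem Good.regular_closed (h : Good φ) (hX : IsPullback a p₂ p (Spec.map (CommRingCat.ofHom φ)))
    [LocallyOfFiniteType p] (hreg : Models.IsRegularScheme X) (x : X₂) (hx : p (a x) = closedPoint R) :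
    IsRegularLocalRing (X₂.presheaf.stalk x) := by
  have hflat : Flat a := MorphismProperty.of_isPullback hX.flip (flat_map h.ext)
  have hft : LocallyOfFiniteType p₂ := MorphismProperty.of_isPullback hX ‹_›
  have hN2 : IsLocallyNoetherian X₂ := isLocallyNoetherian p₂
  obtain ⟨e⟩ := h.exists_fib hX (a x) hx
  obtain ⟨ε⟩ := Groth.Agent.Flat2D.FiberStalk.nonempty_asFiber_stalkEquiv' a x
  let _ : Algebra (X.presheaf.stalk (a x)) (X₂.presheaf.stalk x) := (a.stalkMap x).hom.toAlgebra
  have hloc : IsLocalHom (algebraMap (X.presheaf.stalk (a x)) (X₂.presheaf.stalk x)) :=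
    inferInstanceAs (IsLocalHom (a.stalkMap x).hom)
  have hfl : Module.Flat (X.presheaf.stalk (a x)) (X₂.presheaf.stalk x) := Flat.stalkMap a x
  have hreg' : IsRegularLocalRing (X.presheaf.stalk (a x)) := hreg _
  have hN : IsNoetherianRing (X₂.presheaf.stalk x) := inferInstance
  refine Groth.Agent.CalgB.RegHom1.isRegularLocalRing_of_flat_of_fiber (A := X.presheaf.stalk (a x)) ?_
  have hf : IsField ((a.fiber (a x)).presheaf.stalk (a.asFiber x)) := by
    have h1 := isField_stalk_spec (X.residueField (a x)) (e.hom (a.asFiber x))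
    have h2 : IsIso (e.hom.stalkMap (a.asFiber x)) := inferInstance
    exact (asIso (e.hom.stalkMap (a.asFiber x))).commRingCatIsoToRingEquiv.symm.toMulEquiv.isField h1
  have hf2 : IsField (X₂.presheaf.stalk x ⧸
      Ideal.map (algebraMap (X.presheaf.stalk (a x)) (X₂.presheaf.stalk x))
        (maximalIdeal (X.presheaf.stalk (a x)))) :=
    ε.toMulEquiv.isField hf
  let _ : Field (X₂.presheaf.stalk x ⧸
      Ideal.map (algebraMap (X.presheaf.stalk (a x)) (X₂.presheaf.stalk x))
        (maximalIdeal (X.presheaf.stalk (a x)))) := hf2.toField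
  infer_instance

theorem closedPoint_of (h : Models.IsDVRExtension R φ) (hX : IsPullback a p₂ p (Spec.map (CommRingCat.ofHom φ)))
    (x : X₂) (hx : p₂ x = closedPoint R₂) : p (a x) = closedPoint R := by
  rw [← Scheme.Hom.comp_apply, hX.w, Scheme.Hom.comp_apply, hx]
  have := h.2
  exact IsLocalRing.comap_closedPoint φ

section Model

variable {C C₂ : Scheme.{u}} {f : C ⟶ Spec (CommRingCat.of (FractionRing R))}
  {f₂ : C₂ ⟶ Spec (CommRingCat.of (FractionRing R₂))} {ψ : FractionRing R →+* FractionRing R₂} {w : C₂ ⟶ C}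

theorem isModel (hX : IsPullback a p₂ p (Spec.map (CommRingCat.ofHom φ)))
    (hψ : ψ.comp (algebraMap R (FractionRing R)) = (algebraMap R₂ (FractionRing R₂)).comp φ)
    (hw : IsPullback w f₂ f (Spec.map (CommRingCat.ofHom ψ))) (hm : Models.IsModel R X p C f) :
    Models.IsModel R₂ X₂ p₂ C₂ f₂ := by
  obtain ⟨h1, h2, h3, g, hg⟩ := hm
  obtain ⟨g', -, hg'⟩ := K954.GenLift.isPullback_lift hψ hg hw hX
  exact ⟨MorphismProperty.of_isPullback hX h1, MorphismProperty.of_isPullback hX h2,
    MorphismProperty.of_isPullback hX h3, g', hg'⟩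

/-- **Base change of minimal models.** -/
theorem Good.isMinimalModel (h : Good φ) (hX : IsPullback a p₂ p (Spec.map (CommRingCat.ofHom φ)))
    (hψ : ψ.comp (algebraMap R (FractionRing R)) = (algebraMap R₂ (FractionRing R₂)).comp φ)
    (hw : IsPullback w f₂ f (Spec.map (CommRingCat.ofHom ψ))) [Smooth f] (hm : Models.IsMinimalModel R X p C f) :
    Models.IsMinimalModel R₂ X₂ p₂ C₂ f₂ := by
  obtain ⟨⟨hmod, hprop, hreg⟩, hmin⟩ := hm
  have hm2 := isModel hX hψ hw hmod
  have hft : LocallyOfFiniteType p := hmod.2.1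
  have hft2 : LocallyOfFiniteType p₂ := hm2.2.1
  have hsm : Smooth f₂ := MorphismProperty.of_isPullback hw ‹_›
  have hN2 : IsLocallyNoetherian X₂ := isLocallyNoetherian p₂
  refine ⟨⟨hm2, MorphismProperty.of_isPullback hX hprop, fun x => ?_⟩, h.not_isExcCurve hX hmin⟩
  by_cases hx : p₂ x = closedPoint R₂
  · exact h.regular_closed hX hreg x (closedPoint_of h.ext hX x hx)
  · obtain ⟨g, hg⟩ := hm2.2.2.2
    exact Groth.Agent.Models.NodeLocus.regular_generic hg x
      (Groth.Agent.Models.NodeLocus.mem_range_of_model hg x hx)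

omit [IsDomain R] [IsDiscreteValuationRing R] [IsDomain R₂] [IsDiscreteValuationRing R₂] in
/-- Nodality of a flat family can be checked after a surjective base change. -/
theorem isNodalFamily_of_bc (hs : Surjective (Spec.map (CommRingCat.ofHom φ)))
    (hX : IsPullback a p₂ p (Spec.map (CommRingCat.ofHom φ))) [Flat p] [LocallyOfFinitePresentation p]
    (hn : Curv2.IsNodalFamily p₂) : Curv2.IsNodalFamily p := by
  refine ⟨inferInstance, inferInstance, fun s => ?_⟩
  obtain ⟨s₂, rfl⟩ := hs.surj s
  have hp : IsPullback (p₂.fiberι s₂) (p₂.fiberToSpecResidueField s₂) p₂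
      ((Spec (CommRingCat.of R₂)).fromSpecResidueField s₂) := IsPullback.of_hasPullback _ _
  refine Groth.Agent.Models.H112.NodalFam.isNodalFibre_of_isPullback p
    ((Spec (CommRingCat.of R₂)).residueField s₂) _ _ _ (hp.paste_horiz hX) (hn.2.2 s₂).1 (hn.2.2 s₂).2 _
    ?_
  have h1 := (Spec (CommRingCat.of R₂)).range_fromSpecResidueField s₂
  obtain ⟨z, hz⟩ : s₂ ∈ Set.range ((Spec (CommRingCat.of R₂)).fromSpecResidueField s₂) := h1.ge rfl
  exact ⟨z, by rw [Scheme.Hom.comp_apply, hz]⟩

/-- **(SS1)** If `C` acquires semistable reduction after a good extension then its minimal models are nodal families. -/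
theorem Good.isNodalFamily (h : Good φ)
    (hψ : ψ.comp (algebraMap R (FractionRing R)) = (algebraMap R₂ (FractionRing R₂)).comp φ)
    (hw : IsPullback w f₂ f (Spec.map (CommRingCat.ofHom ψ)))
    (hC : Curve.IsSmoothProperCurve (FractionRing R) C f) (hC₂ : Curve.IsSmoothProperCurve (FractionRing R₂) C₂ f₂)
    (hH0 : IsIso f₂.appTop) (hss : Models.HasSemistableReduction R₂ C₂ f₂) (hm : Models.IsMinimalModel R X p C f) :
    Curv2.IsNodalFamily p := by
  have hsm : Smooth f := hC.2.1
  have hX : IsPullback (pullback.fst p (Spec.map (CommRingCat.ofHom φ))) (pullback.snd p _) p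
      (Spec.map (CommRingCat.ofHom φ)) := IsPullback.of_hasPullback _ _
  have h1 := h.isMinimalModel hX hψ hw hm
  have h2 := Groth.Agent.S3336.result R₂ C₂ _ f₂ _ hC₂ hH0 hss h1
  have h3 : Flat p := hm.1.1.1
  have h4 : LocallyOfFiniteType p := hm.1.1.2.1
  have h5 : LocallyOfFinitePresentation p := by
    have : IsLocallyNoetherian (Spec (CommRingCat.of R)) := by
      have : IsNoetherianRing (CommRingCat.of R) := inferInstanceAs (IsNoetherianRing R)
      infer_instance
    infer_instance
  exact isNodalFamily_of_bc (surjective_map h.ext) hX h2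

end Model

end

end K185.MinBC
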